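import Mathlib

/-! # Tables for the cubic form of type E₆; generated by a script. -/

set_option autoImplicit false

namespace Cfsg.Agent.Lib.CubicE6.Tab

/-- The 45 monomials of the form `(c, a, b, d)`: `c x_a x_b x_d`, coordinates coded `9k + 3i + j`. -/
def triL : List (ℤ × ℕ × ℕ × ℕ) := [(1, 0, 4, 8), (-1, 0, 5, 7), (-1, 1, 3, 8), (1, 1, 5, 6), (1, 2, 3, 7), (-1, 2, 4, 6), (1, 9, 13, 17), (-1, 9, 14, 16), (-1, 10, 12, 17), (1, 10, 14, 15), (1, 11, 12, 16), (-1, 11, 13, 15), (1, 18, 22, 26), (-1, 18, 23, 25), (-1, 19, 21, 26), (1, 19, 23, 24), (1, 20, 21, 25), (-1, 20, 22, 24), (-1, 0, 9, 18), (-1, 0, 10, 21), (-1, 0, 11, 24), (-1, 1, 12, 18), (-1, 1, 13, 21), (-1, 1, 14, 24), (-1, 2, 15, 18), (-1, 2, 16, 21), (-1, 2, 17, 24), (-1, 3, 9, 19), (-1, 3, 10, 22), (-1, 3, 11, 25), (-1, 4, 12, 19), (-1, 4, 13, 22), (-1, 4, 14, 25), (-1, 5, 15, 19), (-1,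 5, 16, 22), (-1, 5, 17, 25), (-1, 6, 9, 20), (-1, 6, 10, 23), (-1, 6, 11, 26), (-1, 7, 12, 20), (-1, 7, 13, 23), (-1, 7, 14, 26), (-1, 8, 15, 20), (-1, 8, 16, 23), (-1, 8, 17, 26)]

/-- The nilpotent matrices of the roots, as lists of entries `(q, p, ε)`: `N e_p = ε e_q`. -/
def NtL : List (List (ℕ × ℕ × ℤ)) := [[(22, 23, 1), (25, 26, 1), (8, 5, -1), (6, 3, -1), (19, 20, 1), (7, 4, -1)], [(7, 1, -1), (24, 26, 1), (21, 23, 1), (18, 20, 1), (8, 2, -1), (6, 0, -1)], [(6, 12, 1), (16, 26, 1), (17, 23, -1), (18, 5, 1), (19, 2, -1), (7, 9, -1)], [(6, 13, 1), (15, 26, -1), (17, 20, 1), (21, 5, 1), (22, 2, -1), (7, 10, -1)], [(6, 14, 1), (15, 23, 1), (16, 20, -1), (24, 5, 1), (7, 11, -1), (25, 2, -1)], [(13, 26, 1), (18, 4, 1), (19, 1, -1), (8, 9, 1), (6, 15, -1), (14, 23, -1)], [(12, 26, -1), (21, 4, 1), (8, 10, 1), (6, 16, -1), (14, 20, 1), (22, 1, -1)], [(12,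 23, 1), (24, 4, 1), (8, 11, 1), (6, 17, -1), (13, 20, -1), (25, 1, -1)], [(0, 26, -1), (6, 24, 1), (14, 5, 1), (17, 4, -1), (22, 9, -1), (19, 10, 1)], [(0, 23, 1), (6, 21, -1), (13, 5, -1), (16, 4, 1), (19, 11, 1), (25, 9, -1)], [(0, 20, -1), (6, 18, 1), (12, 5, 1), (15, 4, -1), (22, 11, 1), (25, 10, -1)], [(14, 2, 1), (17, 1, -1), (21, 9, -1), (18, 10, 1), (3, 26, 1), (6, 25, -1)], [(13, 2, -1), (16, 1, 1), (18, 11, 1), (24, 9, -1), (3, 23, -1), (6, 22, 1)], [(12, 2, 1), (24, 10, -1), (21, 11, 1), (3, 20, 1), (6, 19, -1), (15, 1, -1)], [(0, 2, 1), (3, 5, 1), (6, 8, 1), (15, 9, -1), (16, 10, -1), (17, 11, -1)], [(0, 1, 1), (3, 4, 1), (6, 7, 1), (12, 9, -1), (13, 10, -1), (14, 11, -1)], [(10, 26, -1), (18, 3, -1), (19, 0, 1), (8, 12, 1), (11, 23, 1), (7, 15, -1)], [(9, 26, 1), (21, 3, -1), (8, 13, 1), (11, 20, -1), (22, 0, 1), (7, 16, -1)], [(9, 23, -1),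 (24, 3, -1), (8, 14, 1), (10, 20, 1), (7, 17, -1), (25, 0, 1)], [(11, 5, -1), (17, 3, 1), (22, 12, -1), (19, 13, 1), (1, 26, -1), (7, 24, 1)], [(10, 5, 1), (16, 3, -1), (19, 14, 1), (1, 23, 1), (7, 21, -1), (25, 12, -1)], [(1, 20, -1), (7, 18, 1), (15, 3, 1), (22, 14, 1), (25, 13, -1), (9, 5, -1)], [(11, 4, -1), (14, 3, 1), (22, 15, 1), (19, 16, -1), (2, 26, 1), (8, 24, -1)], [(10, 4, 1), (13, 3, -1), (19, 17, -1), (2, 23, -1), (25, 15, 1), (8, 21, 1)], [(2, 20, 1), (22, 17, -1), (25, 16, 1), (12, 3, 1), (9, 4, -1), (8, 18, -1)], [(0, 3, 1), (1, 4, 1), (2, 5, 1), (19, 18, -1), (22, 21, -1), (25, 24, -1)], [(11, 2, -1), (17, 0, 1), (21, 12, -1), (18, 13, 1), (4, 26, 1), (7, 25, -1)], [(10, 2, 1), (16, 0, -1), (18, 14, 1), (4, 23, -1), (7, 22, 1), (24, 12, -1)], [(4, 20, 1), (7, 19, -1), (15, 0, 1), (9, 2, -1), (24, 13, -1), (21, 14, 1)], [(1, 2, 1), (4,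 5, 1), (7, 8, 1), (15, 12, -1), (16, 13, -1), (17, 14, -1)], [(11, 1, 1), (14, 0, -1), (21, 15, -1), (8, 25, -1), (5, 26, 1), (18, 16, 1)], [(24, 15, -1), (8, 22, 1), (5, 23, -1), (10, 1, -1), (13, 0, 1), (18, 17, 1)], [(12, 0, -1), (9, 1, 1), (24, 16, -1), (21, 17, 1), (8, 19, -1), (5, 20, 1)], [(18, 24, 1), (19, 25, 1), (20, 26, 1), (11, 9, -1), (14, 12, -1), (17, 15, -1)], [(10, 9, 1), (13, 12, 1), (16, 15, 1), (18, 21, -1), (19, 22, -1), (20, 23, -1)], [(11, 10, 1), (14, 13, 1), (17, 16, 1), (21, 24, -1), (22, 25, -1), (23, 26, -1)], [(10, 11, 1), (13, 14, 1), (16, 17, 1), (24, 21, -1), (25, 22, -1), (26, 23, -1)], [(9, 10, 1), (12, 13, 1), (15, 16, 1), (21, 18, -1), (22, 19, -1), (23, 20, -1)], [(9, 11, -1), (12, 14, -1), (15, 17, -1), (24, 18, 1), (25, 19, 1), (26, 20, 1)], [(20, 5, 1), (19, 8, -1), (1, 9, 1), (0, 12, -1), (17, 21, 1), (16, 24,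 -1)], [(1, 10, -1), (0, 13, 1), (17, 18, 1), (15, 24, -1), (22, 8, 1), (23, 5, -1)], [(16, 18, 1), (25, 8, -1), (26, 5, 1), (1, 11, 1), (0, 14, -1), (15, 21, -1)], [(2, 1, 1), (5, 4, 1), (8, 7, 1), (12, 15, -1), (13, 16, -1), (14, 17, -1)], [(2, 9, -1), (13, 24, -1), (14, 21, 1), (20, 4, 1), (19, 7, -1), (0, 15, 1)], [(12, 24, -1), (22, 7, 1), (23, 4, -1), (2, 10, 1), (14, 18, 1), (0, 16, -1)], [(13, 18, 1), (25, 7, -1), (26, 4, 1), (12, 21, -1), (2, 11, -1), (0, 17, 1)], [(3, 0, 1), (4, 1, 1), (5, 2, 1), (18, 19, -1), (21, 22, -1), (24, 25, -1)], [(3, 12, 1), (4, 9, -1), (18, 8, -1), (20, 2, 1), (17, 22, -1), (16, 25, 1)], [(15, 25, 1), (21, 8, 1), (23, 2, -1), (3, 13, -1), (4, 10, 1), (17, 19, -1)], [(16, 19, -1), (24, 8, -1), (26, 2, 1), (15, 22, 1), (3, 14, 1), (4, 11, -1)], [(5, 9, -1), (13, 25, -1), (14, 22, 1), (3, 15, 1), (18, 7, 1), (20, 1,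 -1)], [(12, 25, -1), (21, 7, -1), (23, 1, 1), (5, 10, 1), (14, 19, 1), (3, 16, -1)], [(13, 19, 1), (24, 7, 1), (26, 1, -1), (12, 22, -1), (5, 11, -1), (3, 17, 1)], [(20, 10, 1), (0, 25, 1), (17, 7, -1), (23, 9, -1), (14, 8, 1), (3, 24, -1)], [(20, 11, -1), (0, 22, 1), (16, 7, -1), (13, 8, 1), (26, 9, 1), (3, 21, -1)], [(12, 8, 1), (15, 7, -1), (23, 11, 1), (0, 19, 1), (26, 10, -1), (3, 18, -1)], [(1, 0, 1), (4, 3, 1), (7, 6, 1), (9, 12, -1), (10, 13, -1), (11, 14, -1)], [(9, 15, -1), (10, 16, -1), (11, 17, -1), (2, 0, 1), (5, 3, 1), (8, 6, 1)], [(20, 3, 1), (19, 6, -1), (1, 15, -1), (10, 24, -1), (11, 21, 1), (2, 12, 1)], [(9, 24, -1), (22, 6, 1), (23, 3, -1), (1, 16, 1), (11, 18, 1), (2, 13, -1)], [(10, 18, 1), (25, 6, -1), (26, 3, 1), (9, 21, -1), (1, 17, -1), (2, 14, 1)], [(4, 15, -1), (10, 25, -1), (11, 22, 1), (5, 12, 1), (18, 6, 1), (20, 0, -1)],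 [(4, 16, 1), (9, 25, -1), (11, 19, 1), (21, 6, -1), (23, 0, 1), (5, 13, -1)], [(4, 17, -1), (9, 22, -1), (10, 19, 1), (24, 6, 1), (26, 0, -1), (5, 14, 1)], [(20, 13, -1), (1, 25, -1), (17, 6, -1), (4, 24, 1), (11, 8, 1), (23, 12, 1)], [(20, 14, 1), (1, 22, -1), (16, 6, -1), (4, 21, 1), (10, 8, 1), (26, 12, -1)], [(9, 8, 1), (15, 6, -1), (23, 14, -1), (1, 19, -1), (4, 18, 1), (26, 13, 1)], [(11, 7, -1), (2, 25, -1), (5, 24, 1), (20, 16, -1), (23, 15, 1), (14, 6, 1)], [(10, 7, -1), (2, 22, -1), (5, 21, 1), (20, 17, 1), (13, 6, 1), (26, 15, -1)], [(9, 7, -1), (2, 19, -1), (5, 18, 1), (12, 6, 1), (23, 17, -1), (26, 16, 1)], [(2, 8, -1), (20, 18, 1), (0, 6, -1), (23, 21, 1), (1, 7, -1), (26, 24, 1)], [(3, 6, -1), (4, 7, -1), (20, 19, 1), (5, 8, -1), (23, 22, 1), (26, 25, 1)]]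

/-- The diagonal matrices of the fundamental coroots. -/
def HtL : List (List (ℕ × ℤ)) := [[(0, -1), (1, 1), (3, -1), (4, 1), (6, -1), (7, 1), (9, 1), (10, 1), (11, 1), (12, -1), (13, -1), (14, -1)], [(0, -1), (1, -1), (2, -1), (3, 1), (4, 1), (5, 1), (18, 1), (19, -1), (21, 1), (22, -1), (24, 1), (25, -1)], [(1, -1), (2, 1), (4, -1), (5, 1), (7, -1), (8, 1), (12, 1), (13, 1), (14, 1), (15, -1), (16, -1), (17, -1)], [(0, 1), (1, 1), (5, -1), (8, -1), (9, -1), (12, -1), (16, 1), (17, 1), (19, 1), (20, 1), (21, -1), (24, -1)], [(9, 1), (10, -1), (12, 1), (13, -1), (15, 1), (16, -1), (18, -1), (19, -1), (20, -1), (21, 1), (22, 1), (23, 1)], [(10, 1), (11, -1), (13, 1), (14, -1), (16, 1), (17, -1), (21, -1), (22, -1), (23, -1), (24, 1), (25, 1), (26, 1)]]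

/-- The order in which the coordinate vectors are brought to their lines. -/
def ord : List ℕ := [0, 1, 2, 19, 22, 25, 6, 7, 8, 9, 10, 11, 12, 13, 14, 15, 16, 17, 20, 23, 26, 3, 4, 5, 18, 21, 24]

/-- Lines, roots and opposite roots, used for the torus. -/
def bs : List (ℕ × ℕ × ℕ) := [(0, 8, 63), (1, 19, 52), (2, 22, 49), (3, 71, 0), (9, 37, 34), (10, 36, 35)]

/-- The remaining lines, in terms of lines previously known. -/
def der : List (ℕ × ℕ × ℕ) := [(8, 1, 3), (7, 2, 3), (18, 0, 9), (21, 0, 10), (12, 1, 18), (13, 1, 21), (15, 2, 18), (16, 2, 21), (19, 3, 9), (22, 3, 10), (4, 12, 19), (5, 15, 19), (20, 7, 12), (23, 7, 13), (6, 1, 5), (17, 9, 13), (14, 9, 16), (11, 12, 16), (26, 18, 22), (25, 18, 23), (24, 19, 23)]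

end Cfsg.Agent.Lib.CubicE6.Tab
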